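import Groth.Agent.DSites.SS.Stationary
import Mathlib.Algebra.Category.ModuleCat.Abelian
import Mathlib.Algebra.Category.ModuleCat.Kernels
import Mathlib.Algebra.Category.ModuleCat.Subobject
import Mathlib.LinearAlgebra.Dimension.RankNullity
import Mathlib.LinearAlgebra.FiniteDimensional.Lemmas
import Mathlib.Algebra.BigOperators.Intervals
import Mathlib.Data.Int.Interval

/-!
# Dimension count for stationary lines of spectral sequences
-/

universe v u

set_option autoImplicit false
set_option backward.isDefEq.respectTransparency false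
set_option backward.isDefEq.respectTransparency.types false

open CategoryTheory CategoryTheory.Limits

namespace Groth.Agent.DSites.SS

variable {K : Type u} [Field K]


theorem finrank_iso {A B : ModuleCat.{v} K} (e : A ≅ B) : Module.finrank K A = Module.finrank K B :=
  e.toLinearEquiv.finrank_eq

theorem finrank_of_isZero {A : ModuleCat.{v} K} (h : IsZero A) : Module.finrank K A = 0 :=
  have := ModuleCat.subsingleton_of_isZero h
  Module.finrank_zero_of_subsingleton

theorem finite_of_mono {A B : ModuleCat.{v} K} (f : A ⟶ B) [Mono f] [Module.Finite K B] : Module.Finite K A :=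
  Module.Finite.of_injective f.hom ((ModuleCat.mono_iff_injective f).1 inferInstance)

theorem finite_of_epi {A B : ModuleCat.{v} K} (f : A ⟶ B) [Epi f] [Module.Finite K A] : Module.Finite K B :=
  Module.Finite.of_surjective f.hom ((ModuleCat.epi_iff_surjective f).1 inferInstance)

theorem finrank_le_of_mono {A B : ModuleCat.{v} K} (f : A ⟶ B) [Mono f] [Module.Finite K B] :
    Module.finrank K A ≤ Module.finrank K B :=
  LinearMap.finrank_le_finrank_of_injective ((ModuleCat.mono_iff_injective f).1 inferInstance)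

theorem finrank_cokernel {A B : ModuleCat.{v} K} (f : A ⟶ B) [Mono f] [Module.Finite K B] :
    Module.finrank K (cokernel f : ModuleCat.{v} K) + Module.finrank K A = Module.finrank K B := by
  rw [finrank_iso (ModuleCat.cokernelIsoRangeQuotient f),
    ← LinearMap.finrank_range_of_inj (f := f.hom) ((ModuleCat.mono_iff_injective f).1 inferInstance)]
  exact Submodule.finrank_quotient_add_finrank _

theorem isIso_of_mono_of_finrank {A B : ModuleCat.{v} K} (f : A ⟶ B) [Mono f] [Module.Finite K B]
    (h : Module.finrank K B ≤ Module.finrank K A) : IsIso f := by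
  have := finite_of_mono f
  have hinj := (ModuleCat.mono_iff_injective f).1 inferInstance
  exact (ConcreteCategory.isIso_iff_bijective f).2 ⟨hinj,
    (LinearMap.injective_iff_surjective_of_finrank_eq_finrank
      (le_antisymm (finrank_le_of_mono f) h)).1 hinj⟩

theorem isIso_of_epi_of_finrank {A B : ModuleCat.{v} K} (f : A ⟶ B) [Epi f] [Module.Finite K A]
    (h : Module.finrank K A ≤ Module.finrank K B) : IsIso f := by
  have := finite_of_epi f
  have hsur := (ModuleCat.epi_iff_surjective f).1 inferInstance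
  exact (ConcreteCategory.isIso_iff_bijective f).2 ⟨(LinearMap.injective_iff_surjective_of_finrank_eq_finrank
      (le_antisymm h (LinearMap.finrank_le_finrank_of_surjective hsur))).2 hsur, hsur⟩

variable {r₀ : ℤ} (E : CohomologicalSpectralSequence (ModuleCat.{v} K) r₀)

theorem finrank_succ (r : ℤ) (hr : r₀ ≤ r) (pq : ℤ × ℤ) [Module.Finite K ((E.page r hr).X pq)] :
    Module.Finite K ((E.page (r + 1) (Int.le_add_one hr)).X pq) ∧
    Module.finrank K ((E.page (r + 1) (Int.le_add_one hr)).X pq) ≤ Module.finrank K ((E.page r hr).X pq) ∧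
    (Module.finrank K ((E.page r hr).X pq) ≤ Module.finrank K ((E.page (r + 1) (Int.le_add_one hr)).X pq) →
      (E.page r hr).d (pq - (r, 1 - r)) pq = 0 ∧ (E.page r hr).d pq (pq + (r, 1 - r)) = 0) := by
  have := finite_of_mono ((E.page r hr).iCycles pq)
  have := finite_of_epi ((E.page r hr).homologyπ pq)
  have e : ((E.page r hr).homology pq : ModuleCat.{v} K) ≅ (E.page (r + 1) (Int.le_add_one hr)).X pq :=
    E.iso r (r + 1) pq rfl hr
  have h₁ : Module.finrank K ((E.page r hr).homology pq : ModuleCat.{v} K) ≤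
      Module.finrank K ((E.page r hr).cycles pq : ModuleCat.{v} K) :=
    LinearMap.finrank_le_finrank_of_surjective
      ((ModuleCat.epi_iff_surjective ((E.page r hr).homologyπ pq)).1 inferInstance)
  have h₂ := finrank_le_of_mono ((E.page r hr).iCycles pq)
  refine ⟨Module.Finite.equiv e.toLinearEquiv, (finrank_iso e).symm.le.trans (h₁.trans h₂), fun h => ?_⟩
  rw [← finrank_iso e] at h
  have := isIso_of_mono_of_finrank ((E.page r hr).iCycles pq) (h.trans h₁)
  have := isIso_of_epi_of_finrank ((E.page r hr).homologyπ pq) (h₂.trans h)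
  constructor
  · have h0 : (E.page r hr).toCycles (pq - (r, 1 - r)) pq = 0 := by
      rw [← cancel_mono ((E.page r hr).homologyπ pq), HomologicalComplex.toCycles_comp_homologyπ, zero_comp]
    rw [← HomologicalComplex.toCycles_i, h0, zero_comp]
  · rw [← cancel_epi ((E.page r hr).iCycles pq), HomologicalComplex.iCycles_d, comp_zero]

theorem finrank_antitone (pq : ℤ × ℤ) [Module.Finite K ((E.page r₀ le_rfl).X pq)] :
    ∀ (r : ℤ) (hr : r₀ ≤ r), Module.Finite K ((E.page r hr).X pq) ∧
      ∀ (s : ℤ) (hs : r₀ ≤ s), s ≤ r → Module.finrank K ((E.page r hr).X pq) ≤ Module.finrank K ((E.page s hs).X pq) := by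
  intro r hr
  obtain ⟨k, rfl⟩ : ∃ k : ℕ, r = r₀ + k := ⟨(r - r₀).toNat, by omega⟩
  induction k with
  | zero =>
    refine ⟨Module.Finite.equiv (E.pageXIsoOfEq pq r₀ _ (by simp) le_rfl).toLinearEquiv, fun s hs hsr => ?_⟩
    exact (finrank_iso (E.pageXIsoOfEq pq _ s (by omega) hr)).le
  | succ k ih =>
    obtain ⟨hfin, hle⟩ := ih (by omega)
    obtain ⟨hfin', hle', -⟩ := finrank_succ E (r₀ + k) _ pq
    let e := E.pageXIsoOfEq pq (r₀ + k + 1) (r₀ + (k + 1 : ℕ)) (by omega) (by omega)
    refine ⟨Module.Finite.equiv e.toLinearEquiv, fun s hs hsr => ?_⟩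
    by_cases h : s ≤ r₀ + k
    · exact ((finrank_iso e).symm.le.trans hle').trans (hle s hs h)
    · exact (finrank_iso (E.pageXIsoOfEq pq _ s (by omega) hr)).le

variable {H : ℤ → ModuleCat.{v} K} (a : SpSeq.Abutment E H)

/-- If the dimensions on a line add up to that of the abutment, the line is stationary. -/
theorem stationaryAt_line (n : ℤ) (hfin : a.IsFinite n)
    (hquad : ∀ pq : ℤ × ℤ, pq.1 < 0 ∨ pq.2 < 0 → IsZero ((E.page r₀ le_rfl).X pq))
    (hfd : ∀ pq : ℤ × ℤ, Module.Finite K ((E.page r₀ le_rfl).X pq))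
    (hH : Module.Finite K (H n))
    (hsum : ∑ s ∈ Finset.Icc (0 : ℤ) n, Module.finrank K ((E.page r₀ le_rfl).X (s, n - s)) =
      Module.finrank K (H n)) (s : ℤ) : SpSeq.StationaryAt E (s, n - s) r₀ := by
  let F := a.fil n
  let gr := fun p => (SpSeq.grPiece F (a.anti n) p : ModuleCat.{v} K)
  obtain ⟨⟨a₀, ha₀⟩, b₀, hb₀⟩ := hfin
  have hfinF : ∀ p, Module.Finite K (F p : ModuleCat.{v} K) := fun p => finite_of_mono (F p).arrow
  have hstep : ∀ p, Module.finrank K (gr p) + Module.finrank K (F (p + 1) : ModuleCat.{v} K) =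
      Module.finrank K (F p : ModuleCat.{v} K) := fun p => finrank_cokernel _
  have hgr : ∀ pq : ℤ × ℤ, pq.1 + pq.2 = n →
      Module.finrank K (gr pq.1) = Module.finrank K ((E.page (a.rk pq) (a.stat pq).1).X pq) := fun pq hpq => by
    subst hpq
    exact (finrank_iso (a.β pq)).symm
  have hle : ∀ p, Module.finrank K (gr p) ≤ Module.finrank K ((E.page r₀ le_rfl).X (p, n - p)) := fun p => by
    refine (hgr (p, n - p) (by simp)).le.trans ?_
    exact (finrank_antitone E (p, n - p) _ (a.stat (p, n - p)).1).2 r₀ le_rfl (a.stat (p, n - p)).1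
  have hz : ∀ p, p < 0 ∨ n < p → Module.finrank K ((E.page r₀ le_rfl).X (p, n - p)) = 0 := fun p hp =>
    finrank_of_isZero (hquad _ (by rcases hp with h | h; · exact Or.inl h
                                   · exact Or.inr (show n - p < 0 by omega)))
  have hsumF : ∀ (p : ℤ) (k : ℕ), Module.finrank K (F p : ModuleCat.{v} K) =
      ∑ i ∈ Finset.range k, Module.finrank K (gr (p + i)) + Module.finrank K (F (p + k) : ModuleCat.{v} K) := by
    intro p k
    induction k with
    | zero => rw [Finset.sum_range_zero, zero_add, Nat.cast_zero, add_zero]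
    | succ k ih =>
      rw [ih, Finset.sum_range_succ, add_assoc, show p + ((k + 1 : ℕ) : ℤ) = p + k + 1 by omega, hstep]
  let A := min a₀ 0
  let B := max (max b₀ (n + 1)) A
  obtain ⟨k, hk⟩ : ∃ k : ℕ, B = A + k := ⟨(B - A).toNat, by omega⟩
  have htop : F A = ⊤ := top_le_iff.1 (ha₀.symm.le.trans (a.anti n (min_le_left _ _)))
  have hbot : Module.finrank K (F B : ModuleCat.{v} K) = 0 := by
    have hB : F B = ⊥ := le_bot_iff.1 ((a.anti n (le_trans (le_max_left _ _) (le_max_left _ _))).trans hb₀.le)
    exact finrank_of_isZero ((isZero_zero _).of_iso (eqToIso (by rw [hB]) ≪≫ Subobject.botCoeIsoZero))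
  have htot : Module.finrank K (H n) = ∑ p ∈ Finset.Ico A B, Module.finrank K (gr p) := by
    have : IsIso (F A).arrow := (Subobject.isIso_arrow_iff_eq_top _).2 htop
    rw [← finrank_iso (asIso (F A).arrow), hsumF A k, ← hk, hbot, add_zero]
    refine Finset.sum_bij (fun i _ => A + i) (fun i hi => by simp at hi ⊢; omega) (fun i _ j _ h => by omega)
      (fun p hp => ⟨(p - A).toNat, by simp at hp ⊢; omega⟩) (fun i _ => rfl)
  have hsub : Finset.Icc (0 : ℤ) n ⊆ Finset.Ico A B := fun p hp => by simp at hp ⊢; omega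
  have hout : ∀ p ∈ Finset.Ico A B, p ∉ Finset.Icc (0 : ℤ) n → Module.finrank K (gr p) = 0 := fun p _ hp => by
    have := hle p
    rw [hz p (by simp at hp; omega)] at this
    omega
  have heq : ∀ p, Module.finrank K (gr p) = Module.finrank K ((E.page r₀ le_rfl).X (p, n - p)) := fun p => by
    by_cases hp : p ∈ Finset.Icc (0 : ℤ) n
    · exact (Finset.sum_eq_sum_iff_of_le (fun i _ => hle i)).1
        ((Finset.sum_subset hsub hout).trans (htot.symm.trans hsum.symm)) p hp
    · have := hle p
      rw [hz p (by simp at hp; omega)] at this ⊢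
      omega
  refine ⟨le_rfl, fun r hr _ => ?_⟩
  let pq : ℤ × ℤ := (s, n - s)
  obtain ⟨hfr, hr1⟩ := finrank_antitone E pq r hr
  refine (finrank_succ E r hr pq).2.2 ?_
  obtain ⟨e⟩ := nonempty_iso_of_stationary E (a.stat pq) (max (a.rk pq) (r + 1)) (le_max_left _ _)
  calc Module.finrank K ((E.page r hr).X pq)
      ≤ Module.finrank K ((E.page r₀ le_rfl).X pq) := hr1 r₀ le_rfl hr
    _ = Module.finrank K (gr pq.1) := (heq s).symm
    _ = Module.finrank K ((E.page (max (a.rk pq) (r + 1)) _).X pq) := (hgr pq (by simp [pq])).trans (finrank_iso e)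
    _ ≤ _ := (finrank_antitone E pq _ ((a.stat pq).1.trans (le_max_left _ _))).2 (r + 1) _ (le_max_right _ _)

end Groth.Agent.DSites.SS
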