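import Groth.Prelude.Def_SpSeq
import Mathlib.CategoryTheory.Subobject.Lattice

/-!
# Stationary positions and single surviving terms
-/

universe v u

set_option autoImplicit false
set_option backward.isDefEq.respectTransparency false
set_option backward.isDefEq.respectTransparency.types false

open CategoryTheory CategoryTheory.Limits

namespace Groth.Agent.DSites.SS

variable {C : Type u} [Category.{v} C] [Abelian C] {r₀ : ℤ} (E : CohomologicalSpectralSequence C r₀)

/-- With zero differentials at a position, the next page has the same object there. -/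
theorem nonempty_iso_succ (r : ℤ) (hr : r₀ ≤ r) (pq : ℤ × ℤ)
    (h₁ : (E.page r hr).d (pq - (r, 1 - r)) pq = 0) (h₂ : (E.page r hr).d pq (pq + (r, 1 - r)) = 0) :
    Nonempty ((E.page r hr).X pq ≅ (E.page (r + 1) (Int.le_add_one hr)).X pq) := by
  have h₃ := (E.page r hr).isIso_homologyπ (pq - (r, 1 - r)) pq
    ((ComplexShape.up' ((r, 1 - r) : ℤ × ℤ)).prev_eq' (by simp)) h₁
  have h₄ := (E.page r hr).isIso_iCycles pq (pq + (r, 1 - r))
    ((ComplexShape.up' ((r, 1 - r) : ℤ × ℤ)).next_eq' (by simp)) h₂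
  exact ⟨(asIso ((E.page r hr).iCycles pq)).symm ≪≫ asIso ((E.page r hr).homologyπ pq) ≪≫
    E.iso r (r + 1) pq rfl hr⟩

/-- The object at a stationary position is the same on all later pages. -/
theorem nonempty_iso_of_stationary {pq : ℤ × ℤ} {r : ℤ} (h : SpSeq.StationaryAt E pq r) (s : ℤ) (hs : r ≤ s) :
    Nonempty ((E.page r h.1).X pq ≅ (E.page s (h.1.trans hs)).X pq) := by
  obtain ⟨k, rfl⟩ : ∃ k : ℕ, s = r + k := ⟨(s - r).toNat, by omega⟩
  induction k with
  | zero => exact ⟨E.pageXIsoOfEq pq r _ (by simp) h.1⟩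
  | succ k ih =>
    obtain ⟨e⟩ := ih (by omega)
    have hd := h.2 (r + k) (h.1.trans (by omega)) (by omega)
    obtain ⟨e'⟩ := nonempty_iso_succ E (r + k) (h.1.trans (by omega)) pq hd.1 hd.2
    exact ⟨e ≪≫ e' ≪≫ E.pageXIsoOfEq pq _ _ (by omega) (by have := h.1; omega)⟩

/-- A zero object stays zero on the later pages. -/
theorem isZero_of_le {pq : ℤ × ℤ} (r : ℤ) (hr : r₀ ≤ r) (h : IsZero ((E.page r hr).X pq)) (s : ℤ) (hs : r ≤ s) :
    IsZero ((E.page s (hr.trans hs)).X pq) := by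
  obtain ⟨k, rfl⟩ : ∃ k : ℕ, s = r + k := ⟨(s - r).toNat, by omega⟩
  induction k with
  | zero => exact h.of_iso (E.pageXIsoOfEq pq r _ (by simp) hr).symm
  | succ k ih =>
    exact (HomologicalComplex.ExactAt.of_isZero (ih (by omega))).isZero_homology.of_iso
      (E.iso (r + k) _ pq (by omega) (by omega)).symm

variable {H : ℤ → C} (a : SpSeq.Abutment E H)

/-- The limit term is the page-`r` term once the position is stationary from page `r`. -/
theorem nonempty_iso_limit {pq : ℤ × ℤ} {r : ℤ} (h : SpSeq.StationaryAt E pq r) :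
    Nonempty ((E.page (a.rk pq) (a.stat pq).1).X pq ≅ (E.page r h.1).X pq) := by
  obtain ⟨e₁⟩ := nonempty_iso_of_stationary E (a.stat pq) (max (a.rk pq) r) (le_max_left _ _)
  obtain ⟨e₂⟩ := nonempty_iso_of_stationary E h (max (a.rk pq) r) (le_max_right _ _)
  exact ⟨e₁ ≪≫ e₂.symm⟩

/-- A zero term on page `r` has zero limit. -/
theorem isZero_limit {pq : ℤ × ℤ} (r : ℤ) (hr : r₀ ≤ r) (h : IsZero ((E.page r hr).X pq)) :
    IsZero ((E.page (a.rk pq) (a.stat pq).1).X pq) := by
  obtain ⟨e⟩ := nonempty_iso_of_stationary E (a.stat pq) (max (a.rk pq) r) (le_max_left _ _)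
  exact (isZero_of_le E r hr h _ (le_max_right _ _)).of_iso e

variable {X : C} {F : ℤ → Subobject X} (hF : Antitone F)

theorem fil_eq_of_isZero (p : ℤ) (h : IsZero (SpSeq.grPiece F hF p)) : F p = F (p + 1) := by
  let t := Subobject.ofLE (F (p + 1)) (F p) (hF (Int.le_add_one le_rfl))
  have : Epi t := Preadditive.epi_of_isZero_cokernel t h
  have : IsIso t := isIso_of_mono_of_epi t
  exact le_antisymm (Subobject.le_of_comm (inv t) (by
    rw [IsIso.inv_comp_eq, Subobject.ofLE_arrow])) (hF (Int.le_add_one le_rfl))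

/-- An exhaustive discrete filtration with one nonzero graded piece. -/
theorem nonempty_iso_single (hdisc : ∃ b, F b = ⊥) (hexh : IsLUB (Set.range F) ⊤) (p₀ : ℤ)
    (h : ∀ p, p ≠ p₀ → IsZero (SpSeq.grPiece F hF p)) : Nonempty (X ≅ SpSeq.grPiece F hF p₀) := by
  obtain ⟨b, hb⟩ := hdisc
  have hup : ∀ p, p₀ < p → F p = ⊥ := fun p hp => by
    by_cases hbp : b ≤ p
    · exact le_bot_iff.1 (hb ▸ hF hbp)
    · obtain ⟨k, hk⟩ : ∃ k : ℕ, b = p + k := ⟨(b - p).toNat, by omega⟩
      suffices ∀ k : ℕ, F p = F (p + k) by rw [this k, ← hk, hb]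
      intro k
      induction k with
      | zero => simp
      | succ k ih => rw [ih, fil_eq_of_isZero hF (p + k) (h _ (by omega))]; push_cast; rw [add_assoc]
  have hlow : ∀ p, p ≤ p₀ → F p = F p₀ := fun p hp => by
    obtain ⟨k, rfl⟩ : ∃ k : ℕ, p₀ = p + k := ⟨(p₀ - p).toNat, by omega⟩
    suffices ∀ j : ℕ, j ≤ k → F p = F (p + j) from this k le_rfl
    intro j hj
    induction j with
    | zero => simp
    | succ j ih => rw [ih (by omega), fil_eq_of_isZero hF (p + j) (h _ (by omega))]; push_cast; rw [add_assoc]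
  have htop : F p₀ = ⊤ := top_le_iff.1 (hexh.2 (by
    rintro _ ⟨p, rfl⟩
    rcases le_or_gt p p₀ with hp | hp
    · rw [hlow p hp]
    · rw [hup p hp]; exact bot_le))
  have : IsIso (F p₀).arrow := (Subobject.isIso_arrow_iff_eq_top _).2 htop
  have hz : Subobject.ofLE (F (p₀ + 1)) (F p₀) (hF (Int.le_add_one le_rfl)) = 0 := by
    have hb' : IsZero (F (p₀ + 1) : C) := by
      rw [hup (p₀ + 1) (by omega)]
      exact (isZero_zero C).of_iso Subobject.botCoeIsoZero
    exact hb'.eq_of_src _ _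
  exact ⟨(asIso (F p₀).arrow).symm ≪≫ (cokernelIsoOfEq hz ≪≫ cokernelZeroIsoTarget).symm⟩

/-- A single surviving term computes the abutment. -/
theorem nonempty_iso_page_single (r : ℤ) (hr : r₀ ≤ r) (q : ℤ → ℤ)
    (hdeg : ∀ m q' : ℤ, q' ≠ q m → IsZero ((E.page r hr).X (m - q', q')))
    (n : ℤ) (hdisc : (a.filObj n).IsDiscrete) (hexh : a.IsExhaustive n)
    (hst : SpSeq.StationaryAt E (n - q n, q n) r) :
    Nonempty (H n ≅ (E.page r hr).X (n - q n, q n)) := by
  have hgr : ∀ pq : ℤ × ℤ, pq.1 + pq.2 = n →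
      Nonempty (SpSeq.grPiece (a.fil n) (a.anti n) pq.1 ≅ (E.page (a.rk pq) (a.stat pq).1).X pq) :=
    fun pq hpq => by subst hpq; exact ⟨(a.β pq).symm⟩
  obtain ⟨e⟩ := nonempty_iso_single (a.anti n) hdisc hexh (n - q n) fun p hp => by
    obtain ⟨e⟩ := hgr (p, n - p) (by simp)
    refine (isZero_limit E a r hr ?_).of_iso e
    have := hdeg n (n - p) (by omega)
    rwa [sub_sub_cancel] at this
  obtain ⟨e'⟩ := hgr (n - q n, q n) (by simp)
  obtain ⟨e''⟩ := nonempty_iso_limit E a hst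
  exact ⟨e ≪≫ e' ≪≫ e''⟩

end Groth.Agent.DSites.SS
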