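import Groth.Agent.DSites.SS.TracePage
import Mathlib.Algebra.Category.ModuleCat.Subobject
import Mathlib.Algebra.BigOperators.Intervals

/-!
# Traces on the abutment of a spectral sequence
-/

set_option autoImplicit false
set_option maxHeartbeats 1000000

universe u

open CategoryTheory CategoryTheory.Limits

noncomputable section

namespace Groth.Agent.DSites.SSTrace

local notation "ℂX" => Polynomial ℂ

variable {M : ModuleCat.{u} ℂX} (F : ℤ → Subobject M) (hF : Antitone F)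

/-- The sequence of a filtration step. -/
def stepSeq (p : ℤ) : ShortComplex (ModuleCat.{u} ℂX) :=
  ShortComplex.mk (Subobject.ofLE (F (p + 1)) (F p) (hF (Int.le_add_one le_rfl)))
    (cokernel.π _) (cokernel.condition _)

lemma stepSeq_shortExact (p : ℤ) : (stepSeq F hF p).ShortExact where
  exact := ShortComplex.exact_cokernel _
  mono_f := inferInstanceAs (Mono (Subobject.ofLE (F (p + 1)) (F p) _))
  epi_g := coequalizer.π_epi

theorem abutment_finite_filtration (n : ℕ) (hfin : (∃ a₀ : ℤ, F a₀ = ⊤) ∧ ∃ b₀ : ℤ, F b₀ = ⊥)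
    (hz : ∀ p : ℤ, p < 0 ∨ (n : ℤ) < p → IsZero (SpSeq.grPiece F hF p))
    (hgr : ∀ p : ℤ, Fin' (SpSeq.grPiece F hF p)) :
    Fin' M ∧ tr M = ∑ i ∈ Finset.range (n + 1), tr (SpSeq.grPiece F hF (i : ℤ)) := by
  obtain ⟨⟨a₀, ha₀⟩, b₀, hb₀⟩ := hfin
  have h0 : ∀ p : ℤ, p ≤ 0 → F p = F 0 := fun p hp => by
    induction p, hp using Int.le_induction_down with
    | base => rfl
    | pred k hk ih =>
      rw [DSites.SS.fil_eq_of_isZero hF (k - 1) (hz _ (Or.inl (by omega))), sub_add_cancel, ih]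
  have hn : ∀ p : ℤ, (n : ℤ) + 1 ≤ p → F p = F ((n : ℤ) + 1) := fun p hp => by
    induction p, hp using Int.le_induction with
    | base => rfl
    | succ k hk ih => rw [← DSites.SS.fil_eq_of_isZero hF k (hz _ (Or.inr (by omega))), ih]
  have htop : F 0 = ⊤ := top_le_iff.1 (by
    rw [← h0 (min a₀ 0) (min_le_right _ _), ← ha₀]
    exact hF (min_le_left _ _))
  have hbot : F ((n : ℤ) + 1) = ⊥ := le_bot_iff.1 (by
    rw [← hn (max b₀ ((n : ℤ) + 1)) (le_max_right _ _), ← hb₀]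
    exact hF (le_max_left _ _))
  have key : ∀ (k : ℕ) (p : ℤ), p + k = (n : ℤ) + 1 →
      Fin' (F p : ModuleCat.{u} ℂX) ∧
        tr (F p : ModuleCat.{u} ℂX) = ∑ i ∈ Finset.range k, tr (SpSeq.grPiece F hF (p + i)) := by
    intro k
    induction k with
    | zero =>
      intro p hp
      have hzero : IsZero (F p : ModuleCat.{u} ℂX) := by
        have : p = (n : ℤ) + 1 := by simpa using hp
        rw [this, hbot]
        exact (isZero_zero _).of_iso Subobject.botCoeIsoZero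
      exact ⟨fin_of_isZero hzero, by rw [tr_of_isZero hzero, Finset.sum_range_zero]⟩
    | succ k ih =>
      intro p hp
      obtain ⟨h₁, h₂⟩ := ih (p + 1) (by push_cast at hp; omega)
      have hS := stepSeq_shortExact F hF p
      have h₃ : Fin' (F p : ModuleCat.{u} ℂX) := fin_of_shortExact hS h₁ (hgr p)
      refine ⟨h₃, (tr_add hS h₃).trans ?_⟩
      show tr (F (p + 1) : ModuleCat.{u} ℂX) + tr (SpSeq.grPiece F hF p) = _
      rw [h₂, Finset.sum_range_succ', Nat.cast_zero, add_zero]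
      refine congrArg (· + _) (Finset.sum_congr rfl fun i _ => ?_)
      rw [Nat.cast_succ, add_assoc, add_comm (1 : ℤ)]
  obtain ⟨k₁, k₂⟩ := key (n + 1) 0 (by simp)
  haveI : IsIso (F 0).arrow := (Subobject.isIso_arrow_iff_eq_top _).2 htop
  refine ⟨fin_of_epi (F 0).arrow k₁, ?_⟩
  rw [← tr_iso (asIso (F 0).arrow), k₂]
  simp only [zero_add]

variable {N : ℕ} {a c : ℕ → ℝ} {b d : ℕ → ℕ}
variable (ha : ∀ q, 0 ≤ a q) (hc : ∀ p, 0 ≤ c p)
  (hsum : Summable fun p : ℕ => c p * (d p : ℝ))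
variable (E : E₂CohomologicalSpectralSequence (ModuleCat.{u} ℂX)) {H : ℤ → ModuleCat.{u} ℂX}
  (abut : SpSeq.Abutment E H) (hfin : ∀ n, abut.IsFinite n)

include ha hc hsum hfin in
theorem abutment_trace (h : Good N a c b d fun pq => (E.page 2 le_rfl).X pq) :
    Summable (fun n : ℕ => ‖tr (H n)‖) ∧
      ∑' n : ℕ, (-1 : ℂ) ^ n * tr (H n) =
        ∑' pq, sgnTr (fun pq => (E.page 2 le_rfl).X pq) pq := by
  have hall : ∀ (m : ℤ) (hm : 2 ≤ m), Good N a c b d (fun pq => (E.page m hm).X pq) ∧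
      ∑' pq, sgnTr (fun pq => (E.page m hm).X pq) pq =
        ∑' pq, sgnTr (fun pq => (E.page 2 le_rfl).X pq) pq := by
    intro m hm
    induction m, hm using Int.le_induction with
    | base => exact ⟨h, rfl⟩
    | succ k hk ih =>
      obtain ⟨g, e⟩ := page_step ha hc hsum E k hk ih.1
      exact ⟨g, e.trans ih.2⟩
  let m : ℤ := (N : ℤ) + 2
  have hm : 2 ≤ m := by omega
  have hzero : ∀ (r' : ℤ) (hr' : 2 ≤ r') (pq : ℤ × ℤ), (N : ℤ) < pq.2 ∨ pq.2 < 0 →
      IsZero ((E.page r' hr').X pq) := fun r' hr' pq hpq => by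
    by_cases hneg : pq.1 < 0 ∨ pq.2 < 0
    · exact (hall r' hr').1.quad pq hneg
    · obtain ⟨p, q⟩ := pq
      push Not at hneg
      obtain ⟨p, rfl⟩ := Int.eq_ofNat_of_zero_le hneg.1
      obtain ⟨q, rfl⟩ := Int.eq_ofNat_of_zero_le hneg.2
      exact (hall r' hr').1.row p q (by simp only at hpq; omega)
  have hst : ∀ pq, SpSeq.StationaryAt E pq m := fun pq => by
    refine ⟨hm, fun r' h₀ hr' => ⟨?_, ?_⟩⟩
    · by_cases hq : (N : ℤ) < pq.2 ∨ pq.2 < 0
      · exact (hzero r' h₀ pq hq).eq_of_tgt _ _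
      · exact (hzero r' h₀ _ (Or.inl (by simp only [Prod.snd_sub]; omega))).eq_of_src _ _
    · by_cases hq : (N : ℤ) < pq.2 ∨ pq.2 < 0
      · exact (hzero r' h₀ pq hq).eq_of_src _ _
      · exact (hzero r' h₀ _ (Or.inr (by simp only [Prod.snd_add]; omega))).eq_of_tgt _ _
  let X : ℤ × ℤ → ModuleCat.{u} ℂX := fun pq => (E.page m hm).X pq
  obtain ⟨hX, hT⟩ := hall m hm
  have hgr : ∀ (k : ℤ) (pq : ℤ × ℤ), pq.1 + pq.2 = k →
      Nonempty (SpSeq.grPiece (abut.fil k) (abut.anti k) pq.1 ≅ X pq) := fun k pq hpq => by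
    subst hpq
    obtain ⟨e⟩ := DSites.SS.nonempty_iso_limit E abut (hst pq)
    exact ⟨(abut.β pq).symm ≪≫ e⟩
  have hH : ∀ n : ℕ, tr (H n) = ∑ x ∈ Finset.HasAntidiagonal.antidiagonal n, tr (X ((x.1 : ℤ), (x.2 : ℤ))) := by
    intro n
    have hg : ∀ p : ℤ, Nonempty
        (SpSeq.grPiece (abut.fil n) (abut.anti n) p ≅ X (p, (n : ℤ) - p)) :=
      fun p => hgr n (p, (n : ℤ) - p) (add_sub_cancel p _)
    rw [(abutment_finite_filtration (abut.fil n) (abut.anti n) n (hfin n)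
      (fun p hp => (hX.quad (p, (n : ℤ) - p)
        (by rcases hp with hp | hp
            · exact Or.inl hp
            · exact Or.inr (show (n : ℤ) - p < 0 by omega))).of_iso (hg p).some)
      (fun p => fin_of_mono (hg p).some.hom (hX.fin _))).2,
      Finset.Nat.sum_antidiagonal_eq_sum_range_succ (fun i j => tr (X ((i : ℤ), (j : ℤ))))]
    refine Finset.sum_congr rfl fun i hi => ?_
    rw [Finset.mem_range] at hi
    rw [tr_iso (hg i).some, Nat.cast_sub (by omega)]
  let e := Finset.HasAntidiagonal.sigmaAntidiagonalEquivProd (A := ℕ)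
  have hN : Summable fun n : ℕ => ∑ x ∈ Finset.HasAntidiagonal.antidiagonal n,
      ‖tr (X ((x.1 : ℤ), (x.2 : ℤ)))‖ := by
    have hs := (e.hasSum_iff.2 (hX.summable_norm ha hc hsum).hasSum).sigma
      (fun n => hasSum_fintype _)
    refine hs.summable.congr fun n => ?_
    exact Finset.sum_coe_sort (Finset.HasAntidiagonal.antidiagonal n)
      (fun x : ℕ × ℕ => ‖tr (X ((x.1 : ℤ), (x.2 : ℤ)))‖)
  refine ⟨hN.of_nonneg_of_le (fun _ => norm_nonneg _) fun n => ?_, ?_⟩
  · rw [hH n]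
    exact norm_sum_le _ _
  · rw [← hT]
    have hs := (e.hasSum_iff.2 (hX.summable_sgnTr ha hc hsum).hasSum).sigma
      (fun n => hasSum_fintype _)
    refine Eq.trans (tsum_congr fun n => ?_) hs.tsum_eq
    rw [hH n, Finset.mul_sum, ← Finset.sum_coe_sort (Finset.HasAntidiagonal.antidiagonal n)]
    refine Finset.sum_congr rfl fun x _ => ?_
    obtain ⟨⟨i, j⟩, hx⟩ := x
    rw [Finset.HasAntidiagonal.mem_antidiagonal] at hx
    subst hx
    rfl

end Groth.Agent.DSites.SSTrace
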