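import Groth.Agent.S14280
import Mathlib.Algebra.Category.ModuleCat.ChangeOfRings
import Mathlib.Algebra.Category.ModuleCat.Abelian
import Mathlib.Algebra.Homology.ShortComplex.ModuleCat
import Mathlib.Algebra.Homology.ShortComplex.HomologicalComplex
import Mathlib.LinearAlgebra.Trace
import Mathlib.LinearAlgebra.Eigenspace.Basic
import Mathlib.Analysis.Complex.Basic
import Groth.Agent.DiscFam.TraceLocal

/-!
# Complex vector spaces with an endomorphism
-/

set_option autoImplicit false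

universe u

open CategoryTheory CategoryTheory.Limits

noncomputable section

namespace Groth.Agent.DSites.SSTrace

local notation "ℂX" => Polynomial ℂ

/-- Restriction of scalars to `ℂ`. -/
abbrev res : ModuleCat.{u} ℂX ⥤ ModuleCat.{u} ℂ :=
  ModuleCat.restrictScalars (algebraMap ℂ ℂX)

/-- The endomorphism given by the variable. -/
abbrev Φ (M : ModuleCat.{u} ℂX) : res.obj M →ₗ[ℂ] res.obj M :=
  (res.map ((Polynomial.X : ℂX) • 𝟙 M)).hom

/-- The trace. -/
abbrev tr (M : ModuleCat.{u} ℂX) : ℂ := LinearMap.trace ℂ _ (Φ M)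

/-- Finite-dimensionality. -/
abbrev Fin' (M : ModuleCat.{u} ℂX) : Prop := Module.Finite ℂ (res.obj M)

/-- Bounds on eigenvalues and dimension. -/
def Bd (r : ℝ) (d : ℕ) (M : ModuleCat.{u} ℂX) : Prop :=
  Fin' M ∧ (∀ μ : ℂ, Module.End.HasEigenvalue (Φ M) μ → ‖μ‖ ≤ r) ∧
    Module.finrank ℂ (res.obj M) ≤ d

lemma comp_Φ {M N : ModuleCat.{u} ℂX} (f : M ⟶ N) :
    (res.map f).hom ∘ₗ Φ M = Φ N ∘ₗ (res.map f).hom := by
  have h : ((Polynomial.X : ℂX) • 𝟙 M) ≫ f = f ≫ ((Polynomial.X : ℂX) • 𝟙 N) := by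
    rw [Linear.smul_comp, Linear.comp_smul, Category.id_comp, Category.comp_id]
  have := congrArg (fun z => (res.map z).hom) h
  simpa only [Functor.map_comp, ModuleCat.hom_comp] using this

lemma injective_res {M N : ModuleCat.{u} ℂX} (f : M ⟶ N) [Mono f] :
    Function.Injective (res.map f).hom :=
  (ModuleCat.mono_iff_injective f).1 inferInstance

lemma surjective_res {M N : ModuleCat.{u} ℂX} (f : M ⟶ N) [Epi f] :
    Function.Surjective (res.map f).hom :=
  (ModuleCat.epi_iff_surjective f).1 inferInstance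

lemma exact_res {S : ShortComplex (ModuleCat.{u} ℂX)} (hS : S.ShortExact) :
    Function.Exact (res.map S.f).hom (res.map S.g).hom :=
  (ShortComplex.ShortExact.moduleCat_exact_iff_function_exact _).1 hS.exact

lemma fin_of_mono {M N : ModuleCat.{u} ℂX} (f : M ⟶ N) [Mono f] (h : Fin' N) : Fin' M :=
  haveI := h
  Module.Finite.of_injective _ (injective_res f)

lemma fin_of_epi {M N : ModuleCat.{u} ℂX} (f : M ⟶ N) [Epi f] (h : Fin' M) : Fin' N :=
  haveI := h
  Module.Finite.of_surjective _ (surjective_res f)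

lemma bd_of_mono {M N : ModuleCat.{u} ℂX} (f : M ⟶ N) [Mono f] {r : ℝ} {d : ℕ} (h : Bd r d N) :
    Bd r d M := by
  haveI : Fin' N := h.1
  refine ⟨fin_of_mono f h.1, fun μ hμ => ?_,
    (LinearMap.finrank_le_finrank_of_injective (injective_res f)).trans h.2.2⟩
  obtain ⟨x, hx⟩ := hμ.exists_hasEigenvector
  refine h.2.1 μ (Module.End.hasEigenvalue_of_hasEigenvector (x := (res.map f).hom x) ⟨?_, ?_⟩)
  · rw [Module.End.mem_eigenspace_iff, ← LinearMap.comp_apply (Φ N), ← comp_Φ, LinearMap.comp_apply,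
      Module.End.mem_eigenspace_iff.1 hx.1, map_smul]
  · exact fun h0 => hx.2 (injective_res f (h0.trans (map_zero _).symm))

lemma bd_of_epi {M N : ModuleCat.{u} ℂX} (f : M ⟶ N) [Epi f] {r : ℝ} {d : ℕ} (h : Bd r d M) :
    Bd r d N := by
  haveI : Fin' M := h.1
  haveI : Fin' N := fin_of_epi f h.1
  refine ⟨inferInstance, fun μ hμ => ?_,
    (LinearMap.finrank_le_finrank_of_surjective (surjective_res f)).trans h.2.2⟩
  refine h.2.1 μ ?_
  by_contra hn
  have hinj : Function.Injective (Φ M - μ • (1 : Module.End ℂ (res.obj M))) := by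
    rw [injective_iff_map_eq_zero]
    intro x hx
    by_contra hx0
    exact hn (Module.End.hasEigenvalue_of_hasEigenvector (x := x) ⟨by
      rw [Module.End.mem_eigenspace_iff]
      exact sub_eq_zero.1 hx, hx0⟩)
  have hsurj : Function.Surjective (Φ N - μ • (1 : Module.End ℂ (res.obj N))) := fun y => by
    obtain ⟨x, rfl⟩ := surjective_res f y
    obtain ⟨x', rfl⟩ := (LinearMap.injective_iff_surjective.1 hinj) x
    refine ⟨(res.map f).hom x', ?_⟩
    show Φ N ((res.map f).hom x') - μ • (res.map f).hom x' = (res.map f).hom (Φ M x' - μ • x')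
    rw [map_sub, map_smul, ← LinearMap.comp_apply (Φ N), ← comp_Φ, LinearMap.comp_apply]
  obtain ⟨y, hy⟩ := hμ.exists_hasEigenvector
  refine hy.2 (LinearMap.injective_iff_surjective.2 hsurj ?_)
  rw [map_zero]
  show Φ N y - μ • y = 0
  rw [Module.End.mem_eigenspace_iff.1 hy.1, sub_self]

lemma tr_add {S : ShortComplex (ModuleCat.{u} ℂX)} (hS : S.ShortExact) (h : Fin' S.X₂) :
    tr S.X₂ = tr S.X₁ + tr S.X₃ := by
  haveI := hS.mono_f
  haveI := hS.epi_g
  haveI : Fin' S.X₁ := fin_of_mono S.f h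
  haveI : Fin' S.X₃ := fin_of_epi S.g h
  haveI := h
  exact DiscFam.trace_add_of_exact _ _ (injective_res S.f) (surjective_res S.g) (exact_res hS)
    _ _ _ (comp_Φ S.f).symm (comp_Φ S.g)

lemma fin_of_shortExact {S : ShortComplex (ModuleCat.{u} ℂX)} (hS : S.ShortExact) (h₁ : Fin' S.X₁)
    (h₃ : Fin' S.X₃) : Fin' S.X₂ :=
  haveI := h₁
  haveI := h₃
  haveI := hS.epi_g
  Module.Finite.of_exact (exact_res hS) (surjective_res S.g)

lemma tr_iso {M N : ModuleCat.{u} ℂX} (e : M ≅ N) : tr M = tr N := by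
  rw [tr, tr, ← LinearMap.trace_conj' (Φ M) (res.mapIso e).toLinearEquiv]
  congr 1
  refine LinearMap.ext fun x => ?_
  rw [LinearEquiv.conj_apply_apply]
  show ((res.map e.hom).hom ∘ₗ Φ M) _ = _
  rw [comp_Φ]
  exact congrArg (Φ N) ((res.mapIso e).toLinearEquiv.apply_symm_apply x)

lemma subsingleton_of_isZero {M : ModuleCat.{u} ℂX} (h : IsZero M) : Subsingleton (res.obj M) :=
  ModuleCat.subsingleton_of_isZero (R := ℂX) h

lemma fin_of_isZero {M : ModuleCat.{u} ℂX} (h : IsZero M) : Fin' M :=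
  haveI := subsingleton_of_isZero h
  inferInstance

lemma tr_of_isZero {M : ModuleCat.{u} ℂX} (h : IsZero M) : tr M = 0 := by
  haveI := subsingleton_of_isZero h
  rw [tr, show Φ M = 0 from LinearMap.ext fun x => Subsingleton.elim _ _, map_zero]

/-- Boundaries: subobjects of cycles and quotients of the terms. -/
theorem exists_boundaries {A : Type*} [Category A] [Abelian A] {κ : Type*} {c : ComplexShape κ}
    (E : HomologicalComplex A c) (i j : κ) (hij : c.Rel i j) :
    ∃ (B : A) (S₁ S₂ : ShortComplex A), S₁.ShortExact ∧ S₂.ShortExact ∧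
      S₁.X₁ = E.cycles i ∧ S₁.X₂ = E.X i ∧ S₁.X₃ = B ∧
      S₂.X₁ = B ∧ S₂.X₂ = E.cycles j ∧ S₂.X₃ = E.homology j ∧ (IsZero (E.X j) → IsZero B) := by
  have hn : c.next i = j := c.next_eq' hij
  have hp : c.prev j = i := c.prev_eq' hij
  let b : E.X i ⟶ kernel (E.homologyπ j) :=
    kernel.lift _ (E.toCycles i j) (E.toCycles_comp_homologyπ _ _)
  haveI : Epi b :=
    (ShortComplex.exact_of_g_is_cokernel
      (ShortComplex.mk (E.toCycles i j) (E.homologyπ j) (E.toCycles_comp_homologyπ _ _))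
      (E.homologyIsCokernel i j hp)).epi_kernelLift
  have hb : b ≫ kernel.ι _ ≫ E.iCycles j = E.d i j := by
    rw [kernel.lift_ι_assoc, HomologicalComplex.toCycles_i]
  have hw : E.iCycles i ≫ b = 0 := by
    rw [← cancel_mono (kernel.ι (E.homologyπ j) ≫ E.iCycles j), Category.assoc, hb, zero_comp,
      HomologicalComplex.iCycles_d]
  refine ⟨kernel (E.homologyπ j), ShortComplex.mk (E.iCycles i) b hw,
    ShortComplex.mk (kernel.ι (E.homologyπ j)) (E.homologyπ j) (kernel.condition _),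
    { exact := ?_ }, { exact := ShortComplex.exact_of_f_is_kernel _ (kernelIsKernel _) },
    rfl, rfl, rfl, rfl, rfl, rfl,
    fun h => IsZero.of_mono (kernel.ι _ ≫ E.iCycles j) h⟩
  rw [ShortComplex.exact_iff_exact_up_to_refinements]
  intro T x hx
  have hd : (ShortComplex.mk (E.iCycles i) (E.d i j) (E.iCycles_d _ _)).Exact :=
    ShortComplex.exact_of_f_is_kernel _ (E.cyclesIsKernel i j hn)
  refine hd.exact_up_to_refinements x ?_
  show x ≫ E.d i j = 0
  rw [← hb, reassoc_of% hx, zero_comp]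

end Groth.Agent.DSites.SSTrace
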