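import Groth.Agent.DSites.SS.TraceBasic
import Groth.Agent.DSites.SS.Stationary
import Mathlib.Tactic.Ring
import Mathlib.Tactic.Abel

/-!
# Traces on consecutive pages of a spectral sequence
-/

set_option autoImplicit false
set_option maxHeartbeats 1000000

universe u

open CategoryTheory CategoryTheory.Limits

noncomputable section

namespace Groth.Agent.DSites.SSTrace

local notation "ℂX" => Polynomial ℂ

variable (N : ℕ) (a c : ℕ → ℝ) (b d : ℕ → ℕ)

/-- The boundedness condition on a page. -/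
structure Good (X : ℤ × ℤ → ModuleCat.{u} ℂX) : Prop where
  quad : ∀ pq : ℤ × ℤ, pq.1 < 0 ∨ pq.2 < 0 → IsZero (X pq)
  row : ∀ p q : ℕ, N < q → IsZero (X ((p : ℤ), (q : ℤ)))
  bd : ∀ p q : ℕ, Bd (a q * c p) (b q * d p) (X ((p : ℤ), (q : ℤ)))

variable {N a c b d}

lemma Good.fin {X : ℤ × ℤ → ModuleCat.{u} ℂX} (h : Good N a c b d X) (pq : ℤ × ℤ) :
    Fin' (X pq) := by
  by_cases hpq : pq.1 < 0 ∨ pq.2 < 0
  · exact fin_of_isZero (h.quad pq hpq)
  · obtain ⟨p, q⟩ := pq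
    push Not at hpq
    obtain ⟨p, rfl⟩ := Int.eq_ofNat_of_zero_le hpq.1
    obtain ⟨q, rfl⟩ := Int.eq_ofNat_of_zero_le hpq.2
    exact (h.bd p q).1

/-- The signed trace. -/
def sgnTr (X : ℤ × ℤ → ModuleCat.{u} ℂX) (pq : ℕ × ℕ) : ℂ :=
  (-1 : ℂ) ^ (pq.1 + pq.2) * tr (X ((pq.1 : ℤ), (pq.2 : ℤ)))

variable (ha : ∀ q, 0 ≤ a q) (hc : ∀ p, 0 ≤ c p)
  (hsum : Summable fun p : ℕ => c p * (d p : ℝ))

include ha hc hsum in
lemma Good.summable_norm {X : ℤ × ℤ → ModuleCat.{u} ℂX} (h : Good N a c b d X) :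
    Summable fun pq : ℕ × ℕ => ‖tr (X ((pq.1 : ℤ), (pq.2 : ℤ)))‖ :=
  haveI : ∀ p q : ℕ, FiniteDimensional ℂ (res.obj (X ((p : ℤ), (q : ℤ)))) :=
    fun p q => (h.bd p q).1
  Groth.Agent.S14280.result (fun p q : ℕ => res.obj (X ((p : ℤ), (q : ℤ))))
    (fun p q => Φ (X ((p : ℤ), (q : ℤ)))) N a c b d ha hc
    (fun p q hq => subsingleton_of_isZero (h.row p q hq)) (fun p q μ => (h.bd p q).2.1 μ)
    (fun p q => (h.bd p q).2.2) hsum

include ha hc hsum in
lemma Good.summable_sgnTr {X : ℤ × ℤ → ModuleCat.{u} ℂX} (h : Good N a c b d X) :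
    Summable (sgnTr X) :=
  Summable.of_norm ((h.summable_norm ha hc hsum).congr fun pq => by simp [sgnTr])

/-- The inclusion of the quadrant. -/
def emb (pq : ℕ × ℕ) : ℤ × ℤ := ((pq.1 : ℤ), (pq.2 : ℤ))

lemma emb_injective : Function.Injective emb := fun x y h => by
  simp only [emb, Prod.mk.injEq, Nat.cast_inj] at h
  exact Prod.ext h.1 h.2

lemma mem_range_emb {pq : ℤ × ℤ} (h : ¬ (pq.1 < 0 ∨ pq.2 < 0)) : pq ∈ Set.range emb := by
  push Not at h
  exact ⟨(pq.1.toNat, pq.2.toNat), Prod.ext (Int.toNat_of_nonneg h.1) (Int.toNat_of_nonneg h.2)⟩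

/-- The sign of a bidegree. -/
def sgn (pq : ℤ × ℤ) : ℂ := (-1 : ℂ) ^ (pq.1 + pq.2)

lemma sgn_add (r : ℤ) (pq : ℤ × ℤ) : sgn (pq + (r, 1 - r)) = - sgn pq := by
  have : (pq + (r, 1 - r)).1 + (pq + (r, 1 - r)).2 = (pq.1 + pq.2) + 1 := by
    simp only [Prod.fst_add, Prod.snd_add]
    ring
  rw [sgn, this, zpow_add_one₀ (by norm_num), mul_neg_one]
  rfl

lemma sgn_emb (pq : ℕ × ℕ) : sgn (emb pq) = (-1 : ℂ) ^ (pq.1 + pq.2) := by
  rw [sgn, ← zpow_natCast (-1 : ℂ), Nat.cast_add]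
  rfl

variable (E : E₂CohomologicalSpectralSequence (ModuleCat.{u} ℂX)) (r : ℤ) (hr : 2 ≤ r)

include ha hc hsum in
theorem page_step (h : Good N a c b d fun pq => (E.page r hr).X pq) :
    Good N a c b d (fun pq => (E.page (r + 1) (Int.le_add_one hr)).X pq) ∧
      ∑' pq, sgnTr (fun pq => (E.page (r + 1) (Int.le_add_one hr)).X pq) pq =
        ∑' pq, sgnTr (fun pq => (E.page r hr).X pq) pq := by
  let v : ℤ × ℤ := (r, 1 - r)
  let P := E.page r hr
  have hrel : ∀ i : ℤ × ℤ, (ComplexShape.up' v).Rel i (i + v) := fun i => rfl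
  choose B S₁ S₂ hS₁ hS₂ e₁₁ e₁₂ e₁₃ e₂₁ e₂₂ e₂₃ hBtgt using
    fun i => exists_boundaries P i (i + v) (hrel i)
  -- the next page
  have eH : ∀ pq, P.homology pq ≅ (E.page (r + 1) (Int.le_add_one hr)).X pq :=
    fun pq => E.iso r (r + 1) pq rfl hr
  have hX0 : ∀ pq, IsZero (P.X pq) → IsZero ((E.page (r + 1) (Int.le_add_one hr)).X pq) :=
    fun pq h0 => DSites.SS.isZero_of_le E r hr h0 (r + 1) (by omega)
  have hcyc : ∀ pq {r₁ : ℝ} {d₁ : ℕ}, Bd r₁ d₁ (P.X pq) → Bd r₁ d₁ (P.cycles pq) :=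
    fun pq _ _ hb => bd_of_mono (P.iCycles pq) hb
  have good' : Good N a c b d (fun pq => (E.page (r + 1) (Int.le_add_one hr)).X pq) :=
    { quad := fun pq hpq => hX0 pq (h.quad pq hpq)
      row := fun p q hq => hX0 _ (h.row p q hq)
      bd := fun p q => bd_of_epi (eH _).hom (bd_of_epi (P.homologyπ _) (hcyc _ (h.bd p q))) }
  refine ⟨good', ?_⟩
  -- boundaries
  have hBsrc : ∀ i, IsZero (P.X i) → IsZero (B i) := fun i hi => by
    haveI := (hS₁ i).epi_g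
    exact e₁₃ i ▸ IsZero.of_epi (S₁ i).g (e₁₂ i ▸ hi)
  have goodB : Good N a c b d B :=
    { quad := fun pq hpq => hBsrc pq (h.quad pq hpq)
      row := fun p q hq => hBsrc _ (h.row p q hq)
      bd := fun p q => by
        haveI := (hS₁ ((p : ℤ), (q : ℤ))).epi_g
        exact e₁₃ _ ▸ bd_of_epi (S₁ _).g (by rw [e₁₂]; exact h.bd p q) }
  have key : ∀ i, tr (P.X (i + v)) =
      tr ((E.page (r + 1) (Int.le_add_one hr)).X (i + v)) + tr (B i) + tr (B (i + v)) := fun i => by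
    have t₁ := tr_add (hS₁ (i + v)) (by rw [e₁₂]; exact h.fin (i + v))
    have t₂ := tr_add (hS₂ i) (by rw [e₂₂]; exact fin_of_mono (P.iCycles (i + v)) (h.fin (i + v)))
    rw [e₁₁, e₁₂, e₁₃] at t₁
    rw [e₂₁, e₂₂, e₂₃] at t₂
    rw [t₁, t₂, tr_iso (eH (i + v))]
    abel
  let F : ℤ × ℤ → ℂ := fun i => sgn i * tr (B i)
  have hF0 : ∀ i, i ∉ Set.range emb → F i = 0 := fun i hi => by
    have hz : IsZero (B i) := hBsrc i (h.quad i (by by_contra hc'; exact hi (mem_range_emb hc')))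
    simp [F, tr_of_isZero hz]
  have hF0' : ∀ i, i ∉ Set.range emb → F (i - v) = 0 := fun i hi => by
    have hz : IsZero (B (i - v)) := hBtgt (i - v) (by
      rw [sub_add_cancel]
      exact h.quad i (by by_contra hc'; exact hi (mem_range_emb hc')))
    simp [F, tr_of_isZero hz]
  have hFe : ∀ pq, F (emb pq) = sgnTr B pq := fun pq => by
    simp only [F, sgn_emb]
    rfl
  have hsF : Summable F := (emb_injective.summable_iff hF0).1
    ((goodB.summable_sgnTr ha hc hsum).congr fun pq => (hFe pq).symm)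
  have hsF' : Summable fun i => F (i - v) := (Equiv.subRight v).summable_iff.2 hsF
  have hpt : ∀ pq, sgnTr (fun pq => P.X pq) pq =
      sgnTr (fun pq => (E.page (r + 1) (Int.le_add_one hr)).X pq) pq +
        (F (emb pq) - F (emb pq - v)) := fun pq => by
    have k := key (emb pq - v)
    rw [sub_add_cancel] at k
    have hs : sgn (emb pq) = - sgn (emb pq - v) := by
      have := sgn_add r (emb pq - v)
      rwa [sub_add_cancel] at this
    show (-1 : ℂ) ^ (pq.1 + pq.2) * tr (P.X (emb pq)) = (-1 : ℂ) ^ (pq.1 + pq.2) *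
      tr ((E.page (r + 1) (Int.le_add_one hr)).X (emb pq)) + _
    rw [← sgn_emb, k]
    simp only [F]
    rw [hs]
    ring
  have h1 : Summable fun pq => F (emb pq) := hsF.comp_injective emb_injective
  have h2 : Summable fun pq => F (emb pq - v) := hsF'.comp_injective emb_injective
  symm
  rw [tsum_congr hpt, Summable.tsum_add (good'.summable_sgnTr ha hc hsum) (h1.sub h2),
    Summable.tsum_sub h1 h2]
  have e1 : ∑' pq, F (emb pq) = ∑' i, F i :=
    emb_injective.tsum_eq (fun i hi => by by_contra hn; exact hi (hF0 i hn))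
  have e2 : ∑' pq, F (emb pq - v) = ∑' i, F (i - v) :=
    emb_injective.tsum_eq (f := fun i => F (i - v)) (fun i hi => by by_contra hn; exact hi (hF0' i hn))
  rw [e1, e2, show (∑' i, F (i - v)) = ∑' i, F i from (Equiv.subRight v).tsum_eq F, sub_self,
    add_zero]

theorem good_of_bounds (X : ℤ × ℤ → ModuleCat.{u} ℂX)
    (hquad : ∀ pq : ℤ × ℤ, pq.1 < 0 ∨ pq.2 < 0 → IsZero (X pq))
    (hfd : ∀ pq : ℤ × ℤ, Fin' (X pq))
    (h1 : ∀ p q : ℕ, N < q → IsZero (X ((p : ℤ), (q : ℤ))))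
    (h2 : ∀ (p q : ℕ) (μ : ℂ), Module.End.HasEigenvalue (Φ (X ((p : ℤ), (q : ℤ)))) μ → ‖μ‖ ≤ a q * c p)
    (h3 : ∀ p q : ℕ, Module.finrank ℂ (res.obj (X ((p : ℤ), (q : ℤ)))) ≤ b q * d p) :
    Good N a c b d X :=
  ⟨hquad, h1, fun p q => ⟨hfd _, h2 p q, h3 p q⟩⟩

end Groth.Agent.DSites.SSTrace
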